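import Mathlib

/-!
Coinduced modules from a normal subgroup.
-/

set_option autoImplicit false
set_option linter.style.haveILetI false

universe v w

namespace CfsgLib.BoundedGraph

variable {D : Type v} [Group D] {D₀ : Subgroup D} {W : Type w} [CommGroup W]

/-- Functions `D → W` that are `θ`-equivariant on the left for `D₀`. -/
def coind (θ : D₀ →* MulAut W) : Subgroup (D → W) where
  carrier := {f | ∀ (h : D₀) (d : D), f ((h : D) * d) = θ h (f d)}
  one_mem' := fun h d => by simp
  mul_mem' := fun {a b} ha hb h d => by simp only [Pi.mul_apply, ha h d, hb h d, map_mul]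
  inv_mem' := fun {a} ha h d => by simp only [Pi.inv_apply, ha h d, map_inv]

/-- Right translation. -/
def coindAct (θ : D₀ →* MulAut W) : D →* MulAut (coind θ) where
  toFun g :=
    { toFun := fun f => ⟨fun d => (f : D → W) (d * g), fun h d => by show (f : D → W) _ = θ h _; rw [mul_assoc]; exact f.2 h _⟩
      invFun := fun f => ⟨fun d => (f : D → W) (d * g⁻¹), fun h d => by show (f : D → W) _ = θ h _; rw [mul_assoc]; exact f.2 h _⟩
      left_inv := fun f => Subtype.ext (funext fun d => by simp [mul_assoc])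
      right_inv := fun f => Subtype.ext (funext fun d => by simp [mul_assoc])
      map_mul' := fun a b => rfl }
  map_one' := MulEquiv.ext fun f => Subtype.ext (funext fun d => by simp)
  map_mul' := fun a b => MulEquiv.ext fun f => Subtype.ext (funext fun d => by simp [mul_assoc])

theorem nontrivial_coind [Nontrivial W] (θ : D₀ →* MulAut W) : Nontrivial (coind θ) := by
  classical
  obtain ⟨w, hw⟩ := exists_ne (1 : W)
  refine ⟨⟨⟨fun d => if hd : d ∈ D₀ then θ ⟨d, hd⟩ w else 1, fun h d => ?_⟩, 1, fun e => hw ?_⟩⟩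
  · show dite _ _ _ = θ h (dite _ _ _)
    by_cases hd : d ∈ D₀
    · rw [dif_pos hd, dif_pos (mul_mem h.2 hd),
        show (⟨(h : D) * d, mul_mem h.2 hd⟩ : D₀) = h * ⟨d, hd⟩ from rfl, map_mul]
      rfl
    · rw [dif_neg hd, dif_neg (fun hc => hd ((Subgroup.mul_mem_cancel_left D₀ h.2).mp hc)), map_one]
  · have h1 := congrFun (congrArg Subtype.val e :) 1
    simp only [dif_pos (one_mem D₀)] at h1
    rw [show (⟨1, one_mem D₀⟩ : D₀) = 1 from rfl, map_one] at h1
    simpa using h1

/-- If `x` acts without fixed points on all its conjugates then it does on the coinduced module. -/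
theorem coind_fpf [D₀.Normal] (θ : D₀ →* MulAut W) {x : D} (hx : x ∈ D₀)
    (h : ∀ (x' : D₀), (∃ y : D, y * x * y⁻¹ = (x' : D)) → ∀ w : W, θ x' w = w → w = 1)
    (f : coind θ) (hf : coindAct θ x f = f) : f = 1 := by
  refine Subtype.ext (funext fun y => h ⟨_, Subgroup.Normal.conj_mem inferInstance x hx y⟩ ⟨y, rfl⟩ _ ?_)
  rw [← f.2]
  show (f : D → W) (y * x * y⁻¹ * y) = (f : D → W) y
  rw [inv_mul_cancel_right]
  exact congrFun (congrArg Subtype.val hf :) y

end CfsgLib.BoundedGraph
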