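import Cfsg.Agent.Lib.BoundedGraph.Defs

/-!
Arbitrarily large groups with the prime graph of `G`, from a cover `D` of `G / S` and a module for it.
-/

set_option autoImplicit false
set_option linter.style.haveILetI false
set_option linter.unusedSectionVars false

universe u v w

namespace CfsgLib.BoundedGraph

variable {G : Type u} [Group G] [Finite G]

/-- An odd prime of `|G|` not joined to `2`. -/
def IsFar (G : Type u) [Group G] (q : ℕ) : Prop :=
  q.Prime ∧ q ≠ 2 ∧ q ∣ Nat.card G ∧ ¬ Edge G 2 q

/-- Every odd prime of `S` is joined to `2` inside `S`. -/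
def TwoUniversal (S : Subgroup G) : Prop :=
  2 ∣ Nat.card S ∧ ∀ p : ℕ, p.Prime → p ≠ 2 → p ∣ Nat.card S → Edge S 2 p

theorem Edge.of_subgroup {S : Subgroup G} {p q : ℕ} (h : Edge S p q) : Edge G p q :=
  h.elim fun s hs => ⟨s, by rwa [Subgroup.orderOf_coe]⟩

theorem TwoUniversal.not_dvd {S : Subgroup G} (hS : TwoUniversal S) {q : ℕ} (hq : IsFar G q) :
    ¬ q ∣ Nat.card S :=
  fun h => hq.2.2.2 (hS.2 q hq.1 hq.2.1 h).of_subgroup

section Pullback

variable {S : Subgroup G} [S.Normal] {D : Type v} [Group D]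

/-- Pairs with the same image in `G / S`. -/
def pullback (ψ : D →* G ⧸ S) : Subgroup (G × D) :=
  ((QuotientGroup.mk' S).comp (MonoidHom.fst G D)).eqLocus (ψ.comp (MonoidHom.snd G D))

theorem mem_pullback (ψ : D →* G ⧸ S) {x : G × D} :
    x ∈ pullback ψ ↔ (QuotientGroup.mk x.1 : G ⧸ S) = ψ x.2 := Iff.rfl

theorem edge_pullback_iff [Finite D] (ψ : D →* G ⧸ S) (hψ : Function.Surjective ψ)
    (hord : ∀ (d : D) (n : ℕ), n ∣ orderOf d → ∃ g : G, n ∣ orderOf g)
    (hker : ∀ d ∈ ψ.ker, ∀ p q : ℕ, p.Prime → q.Prime → p ≠ q → p ∣ Nat.card S → q ∣ orderOf d →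
      Edge G p q)
    {p q : ℕ} (hp : p.Prime) (hq : q.Prime) (hpq : p ≠ q) :
    Edge (pullback ψ) p q ↔ Edge G p q := by
  constructor
  · rintro ⟨⟨⟨g, d⟩, hx⟩, hdvd⟩
    rw [Subgroup.orderOf_mk, Prod.orderOf_mk] at hdvd
    have hsplit : ∀ r : ℕ, r.Prime → r ∣ p * q → r ∣ orderOf g ∨ r ∣ orderOf d := fun r hr hrd =>
      hr.dvd_mul.mp ((hrd.trans hdvd).trans (Nat.lcm_dvd_mul _ _))
    have hcop : p.Coprime q := (Nat.coprime_primes hp hq).mpr hpq
    -- the common image has order dividing both
    have mixed : ∀ r s : ℕ, r.Prime → s.Prime → r ≠ s → r ∣ orderOf g → s ∣ orderOf d →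
        ¬ r ∣ orderOf d → ¬ s ∣ orderOf g → Edge G r s := by
      intro r s hr hs hrs hrg hsd hrd hsg
      set o := orderOf (QuotientGroup.mk g : G ⧸ S) with ho
      have hog : o ∣ orderOf g := orderOf_map_dvd (QuotientGroup.mk' S) g
      have hod : o ∣ orderOf d := by
        rw [ho, (mem_pullback ψ).mp hx]
        exact orderOf_map_dvd ψ d
      have hgS : g ^ o ∈ S := by rw [← QuotientGroup.eq_one_iff, QuotientGroup.mk_pow, pow_orderOf_eq_one]
      have hdk : d ^ o ∈ ψ.ker := by
        rw [MonoidHom.mem_ker, map_pow, ← (mem_pullback ψ).mp hx, pow_orderOf_eq_one]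
      have hro : ¬ r ∣ o := fun h => hrd (h.trans hod)
      have hso : ¬ s ∣ o := fun h => hsg (h.trans hog)
      have hrS : r ∣ Nat.card S := by
        have h1 : orderOf (g ^ o) ∣ Nat.card S := Subgroup.orderOf_dvd_natCard S hgS
        rw [orderOf_pow_of_dvd (orderOf_pos _).ne' hog] at h1
        refine (hr.dvd_mul.mp ?_).resolve_left hro |>.trans h1
        rwa [Nat.mul_div_cancel' hog]
      have hsk : s ∣ orderOf (d ^ o) := by
        rw [orderOf_pow_of_dvd (orderOf_pos _).ne' hod]
        refine (hs.dvd_mul.mp ?_).resolve_left hso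
        rwa [Nat.mul_div_cancel' hod]
      exact hker _ hdk r s hr hs hrs hrS hsk
    have hg : p ∣ orderOf g → q ∣ orderOf g → Edge G p q := fun h1 h2 =>
      ⟨g, hcop.mul_dvd_of_dvd_of_dvd h1 h2⟩
    have hd : p ∣ orderOf d → q ∣ orderOf d → Edge G p q := fun h1 h2 =>
      hord d _ (hcop.mul_dvd_of_dvd_of_dvd h1 h2)
    rcases hsplit p hp (dvd_mul_right _ _) with h1 | h1 <;>
      rcases hsplit q hq (dvd_mul_left _ _) with h2 | h2
    · exact hg h1 h2
    · by_cases a : p ∣ orderOf d
      · exact hd a h2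
      by_cases b : q ∣ orderOf g
      · exact hg h1 b
      exact mixed p q hp hq hpq h1 h2 a b
    · by_cases a : q ∣ orderOf d
      · exact hd h1 a
      by_cases b : p ∣ orderOf g
      · exact hg b h2
      exact (mixed q p hq hp hpq.symm h2 h1 a b).symm
    · exact hd h1 h2
  · rintro ⟨g, hg⟩
    obtain ⟨d, hd⟩ := hψ (QuotientGroup.mk g)
    refine ⟨⟨(g, d), (mem_pullback ψ).mpr hd.symm⟩, ?_⟩
    rw [Subgroup.orderOf_mk, Prod.orderOf_mk]
    exact hg.trans (Nat.dvd_lcm_left _ _)

end Pullback

/-- The action on tuples. -/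
def piAct {D : Type v} [Group D] {V : Type w} [CommGroup V] (ρ : D →* MulAut V) (k : ℕ) :
    D →* MulAut (Fin k → V) where
  toFun d := MulEquiv.piCongrRight fun _ => ρ d
  map_one' := by ext f i; simp
  map_mul' a b := by ext f i; simp

/-- The contradiction. -/
theorem false_of_cover (hb : Bdd G) {S : Subgroup G} [S.Normal] (hS : TwoUniversal S)
    {D : Type v} [Group D] [Finite D] (ψ : D →* G ⧸ S) (hψ : Function.Surjective ψ)
    (hcard : Nat.card D ∣ Nat.card G)
    (hord : ∀ (d : D) (n : ℕ), n ∣ orderOf d → ∃ g : G, n ∣ orderOf g)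
    (hker : ∀ d ∈ ψ.ker, ∀ p q : ℕ, p.Prime → q.Prime → p ≠ q → p ∣ Nat.card S → q ∣ orderOf d →
      Edge G p q)
    {V : Type w} [CommGroup V] [Finite V] [Nontrivial V] (hV : ∀ a : V, a ^ 2 = 1) (ρ : D →* MulAut V)
    (hfpf : ∀ (d : D) (q : ℕ), IsFar G q → orderOf d = q → ∀ a, ρ d a = a → a = 1) : False := by
  set X := pullback ψ with hX
  let act : (k : ℕ) → X →* MulAut (Fin k → V) := fun k =>
    (piAct ρ k).comp ((MonoidHom.snd G D).comp X.subtype)
  haveI : ∀ k, Finite ((Fin k → V) ⋊[act k] X) := fun k =>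
    Finite.of_equiv _ SemidirectProduct.equivProd.symm
  have hcardF : ∀ k, Nat.card ((Fin k → V) ⋊[act k] X) = Nat.card V ^ k * Nat.card X := fun k => by
    rw [Nat.card_congr SemidirectProduct.equivProd, Nat.card_prod, Nat.card_fun, Nat.card_fin]
  have h2G : 2 ∣ Nat.card G := hS.1.trans (Subgroup.card_subgroup_dvd_card S)
  refine hb.false_of_family (fun k => (Fin k → V) ⋊[act k] X) (fun k => ?_) (fun k => ?_)
  swap
  · rw [hcardF]
    exact lt_of_lt_of_le k.lt_two_pow_self ((Nat.pow_le_pow_left Finite.one_lt_card k).trans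
      (Nat.le_mul_of_pos_right _ Nat.card_pos))
  refine SameGraph.of_edges (fun r hr => ⟨fun h => ?_, fun h => ?_⟩)
    (fun p q hp hq hpq => ⟨fun h => ?_, fun h => ?_⟩)
  · rw [hcardF]
    refine dvd_mul_of_dvd_right (h.trans (Subgroup.card_dvd_of_surjective
      ((MonoidHom.fst G D).comp X.subtype) fun g => ?_)) _
    obtain ⟨d, hd⟩ := hψ (QuotientGroup.mk g)
    exact ⟨⟨(g, d), (mem_pullback ψ).mpr hd.symm⟩, rfl⟩
  · rw [hcardF] at h
    rcases hr.dvd_mul.mp h with h | h
    · have h' := hr.dvd_of_dvd_pow h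
      haveI := Fact.mk hr
      obtain ⟨a, ha⟩ := exists_prime_orderOf_dvd_card' r h'
      have : r ∣ 2 := ha ▸ orderOf_dvd_of_pow_eq_one (hV a)
      rwa [(Nat.prime_dvd_prime_iff_eq hr Nat.prime_two).mp this]
    · have h1 := h.trans (Subgroup.card_subgroup_dvd_card X)
      rw [Nat.card_prod] at h1
      exact (hr.dvd_mul.mp h1).elim id fun h2 => h2.trans hcard
  · obtain ⟨x, hx⟩ := (edge_pullback_iff ψ hψ hord hker hp hq hpq).mpr h
    exact ⟨SemidirectProduct.inr x, by rwa [orderOf_injective _ SemidirectProduct.inr_injective]⟩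
  · obtain ⟨z, hz⟩ := h
    have key : ∀ r : ℕ, r.Prime → r ≠ 2 → 2 * r ∣ orderOf z → Edge G 2 r := by
      intro r hr hr2 hrz
      by_contra hne
      set t := orderOf z.right with ht
      have hright : ∀ n : ℕ, (z ^ n).right = z.right ^ n := fun n =>
        map_pow (SemidirectProduct.rightHom) z n
      have hz2 : orderOf z ∣ t * 2 := orderOf_dvd_of_pow_eq_one (by
        rw [pow_mul]
        set y := z ^ t with hy
        have hy1 : y = SemidirectProduct.inl y.left := by
          ext1
          · simp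
          · rw [hy, hright, ht, pow_orderOf_eq_one, SemidirectProduct.right_inl]
        rw [hy1, ← map_pow, show y.left ^ 2 = 1 from funext fun i => hV _, map_one])
      have hrt : r ∣ t :=
        ((Nat.coprime_primes hr Nat.prime_two).mpr hr2).dvd_of_dvd_mul_right
          ((dvd_mul_left r 2).trans (hrz.trans hz2))
      have h2t : ¬ 2 ∣ t := fun h2 => hne ((edge_pullback_iff ψ hψ hord hker Nat.prime_two hr hr2.symm).mp
        ⟨z.right, ((Nat.coprime_primes Nat.prime_two hr).mpr hr2.symm).mul_dvd_of_dvd_of_dvd h2 hrt⟩)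
      have ht1 : z ^ t ≠ 1 := fun h1 =>
        h2t (((dvd_mul_right 2 r).trans hrz).trans (orderOf_dvd_of_pow_eq_one h1))
      set a := (z ^ t).left with ha
      have hza : z ^ t = SemidirectProduct.inl a := by
        ext1
        · simp [ha]
        · rw [hright, ht, pow_orderOf_eq_one, SemidirectProduct.right_inl]
      obtain ⟨m, hm⟩ := hrt
      have hcomm := congrArg SemidirectProduct.left
        (((Commute.refl z).pow_pow m t).eq : z ^ m * z ^ t = z ^ t * z ^ m)
      rw [hza, SemidirectProduct.mul_left, SemidirectProduct.mul_left, SemidirectProduct.left_inl,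
        SemidirectProduct.right_inl, map_one, MulAut.one_apply, hright] at hcomm
      have hfix : act k (z.right ^ m) a = a := mul_left_cancel (hcomm.trans (mul_comm _ _))
      set x := z.right ^ m with hxdef
      have hxr : orderOf x = r := by
        rw [hxdef, orderOf_pow_of_dvd (fun h0 => (orderOf_pos z.right).ne' (by rw [← ht, hm, h0, mul_zero]))
          ⟨r, by rw [← ht, hm, mul_comm]⟩, ← ht, hm, Nat.mul_div_cancel]
        exact Nat.pos_of_ne_zero fun h0 => (orderOf_pos z.right).ne' (by rw [← ht, hm, h0, mul_zero])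
      have hrG : r ∣ Nat.card G := by
        have h1 : orderOf x ∣ Nat.card (G × D) :=
          (orderOf_dvd_natCard x).trans (Subgroup.card_subgroup_dvd_card X)
        rw [hxr, Nat.card_prod] at h1
        exact (hr.dvd_mul.mp h1).elim id fun h2 => h2.trans hcard
      have hfar : IsFar G r := ⟨hr, hr2, hrG, hne⟩
      haveI := Fact.mk hr
      have hdr : orderOf (x : G × D).2 = r := by
        refine orderOf_eq_prime ?_ ?_
        · have := congrArg (fun y : X => (y : G × D).2) (hxr ▸ pow_orderOf_eq_one x)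
          simpa using this
        · intro hd1
          refine hS.not_dvd hfar ?_
          have hgS : (x : G × D).1 ∈ S := by
            rw [← QuotientGroup.eq_one_iff, (mem_pullback ψ).mp x.2, hd1, map_one]
          have hx1 : orderOf (x : G × D).1 = r := by
            rw [← hxr, ← Subgroup.orderOf_coe, Prod.orderOf, hd1, orderOf_one, Nat.lcm_one_right]
          exact hx1 ▸ Subgroup.orderOf_dvd_natCard S hgS
      exact ht1 (by rw [hza, show a = 1 from funext fun i =>
        hfpf _ r hfar hdr (a i) (congrFun hfix i), map_one])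
    rcases eq_or_ne p 2 with rfl | hp2
    · exact key q hq hpq.symm hz
    rcases eq_or_ne q 2 with rfl | hq2
    · exact (key p hp hp2 (by rwa [mul_comm])).symm
    refine (edge_pullback_iff ψ hψ hord hker hp hq hpq).mp ⟨z.right, ?_⟩
    have h1 : orderOf z ∣ orderOf z.right * 2 := orderOf_dvd_of_pow_eq_one (by
      rw [pow_mul]
      have hy1 : z ^ orderOf z.right = SemidirectProduct.inl (z ^ orderOf z.right).left := by
        ext1
        · simp
        · rw [show (z ^ orderOf z.right).right = z.right ^ orderOf z.right from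
            map_pow (SemidirectProduct.rightHom) z _, pow_orderOf_eq_one, SemidirectProduct.right_inl]
      rw [hy1, ← map_pow, show (z ^ orderOf z.right).left ^ 2 = 1 from funext fun i => hV _, map_one])
    exact (((Nat.coprime_primes hp Nat.prime_two).mpr hp2).mul_left
      ((Nat.coprime_primes hq Nat.prime_two).mpr hq2)).dvd_of_dvd_mul_right (hz.trans h1)

end CfsgLib.BoundedGraph
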