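import Cfsg.Agent.Lib.BoundedGraph.Cyclic
import Cfsg.Agent.Lib.BoundedGraph.Cover
import Cfsg.Agent.Lib.BoundedGraph.Coind
import Cfsg.Agent.Lib.BG.FixedLine.Groups
import Cfsg.Agent.Lib.Transfer.Basic
import Cfsg.Agent.Lib.Transfer.AbelianSylow

/-!
A bounded group has no normal subgroup of even order in which `2` is joined to all other primes.
-/

set_option autoImplicit false
set_option linter.style.haveILetI false
set_option linter.unusedSectionVars false

open scoped commutatorElement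

universe u

namespace CfsgLib.BoundedGraph

variable {G : Type u} [Group G] [Finite G]

theorem exists_supplement {S N : Subgroup G} [S.Normal] (hN : N ⊔ S = ⊤) :
    ∃ M : Subgroup G, M ≤ N ∧ M ⊔ S = ⊤ ∧ S.subgroupOf M ≤ frattini M := by
  haveI : Finite (Subgroup G) := Finite.of_injective (fun K => (K : Set G)) SetLike.coe_injective
  obtain ⟨M, -, ⟨hMN, hMS⟩, hmin⟩ :=
    (Set.toFinite {R : Subgroup G | R ≤ N ∧ R ⊔ S = ⊤}).exists_le_minimal
      (show N ∈ _ from ⟨le_rfl, hN⟩)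
  refine ⟨M, hMN, hMS, le_iInf₂ fun X hX => ?_⟩
  by_contra hle
  have htop : X ⊔ S.subgroupOf M = ⊤ := hX.2 _ (lt_of_le_of_ne le_sup_left fun e => hle (e ▸ le_sup_right))
  have h1 : X.map M.subtype ⊔ S = ⊤ := by
    rw [eq_top_iff, ← hMS]
    refine sup_le ?_ le_sup_right
    conv_lhs => rw [← M.range_subtype, MonoidHom.range_eq_map, ← htop, Subgroup.map_sup]
    exact sup_le_sup_left (by rw [Subgroup.subgroupOf_map_subtype]; exact inf_le_left) _
  refine hX.1 (eq_top_iff.mpr fun m _ => ?_)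
  obtain ⟨x, hx, e⟩ := hmin ⟨(Subgroup.map_subtype_le X).trans hMN, h1⟩ (Subgroup.map_subtype_le X) m.2
  exact (Subtype.ext e : x = m) ▸ hx

theorem exists_omega {Q : Subgroup G} (hQ : IsPGroup 2 Q) (hQ0 : Q ≠ ⊥) :
    ∃ W : Subgroup G, Cfsg.IsElementaryAbelian 2 W ∧ W ≠ ⊥ ∧
      Subgroup.normalizer (Q : Set G) ≤ Subgroup.normalizer (W : Set G) := by
  haveI := Fact.mk Nat.prime_two
  let W : Subgroup G :=
    { carrier := {w | w ∈ Q ∧ (∀ y ∈ Q, y * w = w * y) ∧ w ^ 2 = 1}
      one_mem' := ⟨one_mem _, fun y _ => by simp, one_pow 2⟩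
      mul_mem' := fun {a b} ha hb => ⟨mul_mem ha.1 hb.1,
        fun y hy => ((show Commute y a from ha.2.1 y hy).mul_right (hb.2.1 y hy)).eq,
        by rw [(show Commute a b from (ha.2.1 b hb.1).symm).mul_pow, ha.2.2, hb.2.2, one_mul]⟩
      inv_mem' := fun {a} ha => ⟨inv_mem ha.1,
        fun y hy => ((show Commute y a from ha.2.1 y hy).inv_right).eq, by rw [inv_pow, ha.2.2, inv_one]⟩ }
  refine ⟨W, ⟨⟨⟨fun a b => Subtype.ext (b.2.2.1 a a.2.1)⟩⟩, fun a ha => ha.2.2⟩, fun hW => ?_, fun g hg => ?_⟩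
  · haveI : Nontrivial Q := (Subgroup.nontrivial_iff_ne_bot Q).mpr hQ0
    haveI : Nontrivial (Subgroup.center Q) := hQ.center_nontrivial
    obtain ⟨n, hn, hcard⟩ := (hQ.to_subgroup (Subgroup.center Q)).nontrivial_iff_card.mp inferInstance
    obtain ⟨c, hc⟩ := exists_prime_orderOf_dvd_card' (G := Subgroup.center Q) 2
      (by rw [hcard]; exact dvd_pow_self 2 hn.ne')
    have hcW : ((c : Q) : G) ∈ W := ⟨(c : Q).2, fun y hy => congrArg Subtype.val
      (Subgroup.mem_center_iff.mp c.2 ⟨y, hy⟩), by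
        rw [← Subgroup.coe_pow, ← Subgroup.coe_pow, ← hc, pow_orderOf_eq_one]; rfl⟩
    rw [hW, Subgroup.mem_bot] at hcW
    rw [← Subgroup.orderOf_coe, ← Subgroup.orderOf_coe, hcW, orderOf_one] at hc
    omega
  · have conj : ∀ g ∈ Subgroup.normalizer (Q : Set G), ∀ w ∈ W, g * w * g⁻¹ ∈ W := fun g hg w hw =>
      ⟨(Subgroup.mem_normalizer_iff.mp hg w).mp hw.1, fun y hy => by
        have h1 := hw.2.1 (g⁻¹ * y * g) (by
          simpa using (Subgroup.mem_normalizer_iff.mp (inv_mem hg) y).mp hy)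
        calc y * (g * w * g⁻¹) = g * (g⁻¹ * y * g * w) * g⁻¹ := by group
          _ = _ := by rw [h1]; group,
        by rw [conj_pow, hw.2.2, mul_one, mul_inv_cancel]⟩
    refine Subgroup.mem_normalizer_iff.mpr fun w => ⟨conj g hg w, fun h => ?_⟩
    have := conj g⁻¹ (inv_mem hg) _ h
    rwa [show g⁻¹ * (g * w * g⁻¹) * g⁻¹⁻¹ = w by group] at this

/-- The `r`-elements of a normal nilpotent subgroup form a normal `r`-subgroup. -/
theorem exists_rPart {M : Type u} [Group M] [Finite M] (K : Subgroup M) [K.Normal] [Group.IsNilpotent K]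
    (r : ℕ) [Fact r.Prime] :
    ∃ R : Subgroup M, R.Normal ∧ R ≤ K ∧ IsPGroup r R ∧ ∀ k ∈ K, ∀ i, orderOf k = r ^ i → k ∈ R := by
  let P : Sylow r K := default
  have hPn : (P : Subgroup K).Normal := inferInstance
  haveI : (P : Subgroup K).Characteristic := P.characteristic_of_normal hPn
  refine ⟨(P : Subgroup K).map K.subtype, inferInstance, Subgroup.map_subtype_le _, P.2.map _,
    fun k hk i hi => ⟨⟨k, hk⟩, ?_, rfl⟩⟩
  have hz : IsPGroup r (Subgroup.zpowers (⟨k, hk⟩ : K)) :=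
    IsPGroup.of_card (n := i) (by rw [Nat.card_zpowers, Subgroup.orderOf_mk, hi])
  obtain ⟨P', hP'⟩ := hz.exists_le_sylow
  haveI := Sylow.unique_of_normal P hPn
  rw [Subsingleton.elim P P']
  exact hP' (Subgroup.mem_zpowers _)

theorem exists_badPart {M : Type u} [Group M] [Finite M] (K : Subgroup M) [K.Normal] [Group.IsNilpotent K]
    (T : Finset ℕ) (hT : ∀ q ∈ T, q.Prime) :
    ∃ B : Subgroup M, B.Normal ∧ B ≤ K ∧ (∀ q : ℕ, q.Prime → q ∣ Nat.card B → q ∈ T) ∧
      ∀ q ∈ T, ∀ k ∈ K, ∀ i, orderOf k = q ^ i → k ∈ B := by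
  induction T using Finset.induction_on with
  | empty => exact ⟨⊥, inferInstance, bot_le, fun q hq h => absurd (by simpa using h) hq.ne_one, by simp⟩
  | insert r T hr ih =>
    obtain ⟨B, hBn, hBK, hB1, hB2⟩ := ih fun q hq => hT q (Finset.mem_insert_of_mem hq)
    haveI := Fact.mk (hT r (Finset.mem_insert_self r T))
    obtain ⟨R, hRn, hRK, hR1, hR2⟩ := exists_rPart K r
    refine ⟨R ⊔ B, Subgroup.sup_normal _ _, sup_le hRK hBK, fun q hq hd => ?_, fun q hqT k hk i hi => ?_⟩
    · by_contra hqT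
      rw [Finset.mem_insert, not_or] at hqT
      haveI := Fact.mk hq
      refine hq.ne_one (Nat.eq_one_of_dvd_coprimes
        (Transfer.coprime_card_sup_of_normal (p := q) hRn ?_ ?_) hd dvd_rfl)
      · obtain ⟨n, hn⟩ := IsPGroup.iff_card.mp hR1
        rw [hn]
        exact ((Nat.coprime_primes Fact.out hq).mpr (Ne.symm hqT.1)).pow_left n
      · exact ((hq.coprime_iff_not_dvd).mpr fun h => hqT.2 (hB1 q hq h)).symm
    · rcases Finset.mem_insert.mp hqT with rfl | hqT
      · exact Subgroup.mem_sup_left (hR2 k hk i hi)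
      · exact Subgroup.mem_sup_right (hB2 q hqT k hk i hi)

/-- A central `r`-subgroup is trivial when a Sylow `r`-subgroup is abelian and the group is
generated by elements of order prime to `r`. -/
theorem eq_one_of_central {L : Type*} [Group L] [Finite L] {r : ℕ} [Fact r.Prime] (P : Sylow r L)
    (hP : IsMulCommutative (P : Subgroup L)) {s : Set L} (hs : ∀ x ∈ s, (orderOf x).Coprime r)
    (htop : Subgroup.closure s = ⊤) {z : L} (hz : z ∈ (P : Subgroup L)) (hc : ∀ g, g * z = z * g) :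
    z = 1 := by
  refine Transfer.eq_one_of_abelian_sylow P hP hz (fun n _ => hc n) ?_
  rw [← Abelianization.ker_of, MonoidHom.mem_ker]
  have h1 : (orderOf (Abelianization.of z)).Coprime r := by
    refine Transfer.coprime_of_abelian (s := Abelianization.of '' s) ?_ ?_ _
    · rintro _ ⟨x, hx, rfl⟩
      exact Nat.Coprime.coprime_dvd_left (orderOf_map_dvd _ _) (hs x hx)
    · rw [← MonoidHom.map_closure, htop, Subgroup.map_top_of_surjective]
      exact QuotientGroup.mk'_surjective _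
  obtain ⟨i, hi⟩ := IsPGroup.iff_orderOf.mp P.2 ⟨z, hz⟩
  rw [Subgroup.orderOf_mk] at hi
  obtain ⟨j, -, hj⟩ := (Nat.dvd_prime_pow (Fact.out : r.Prime)).mp (hi ▸ orderOf_map_dvd Abelianization.of z)
  rcases Nat.eq_zero_or_pos j with rfl | hj0
  · exact orderOf_eq_one_iff.mp (by rw [hj, pow_zero])
  · rw [hj] at h1
    exact absurd ((Nat.coprime_self r).mp ((Nat.coprime_pow_left_iff hj0 _ _).mp h1)) (Fact.out : r.Prime).ne_one

/-- Generators that centralize, modulo a kernel, a normal `r`-subgroup force it into the kernel. -/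
theorem rPart_le_ker {M : Type u} [Group M] [Finite M] {X : Type*} [Group X] {A : Type*} [Group A]
    [Finite X] {r : ℕ} [Fact r.Prime] (ψ : M →* A)
    (hcyc : ∀ Q : Subgroup A, IsPGroup r Q → IsCyclic Q)
    {R : Subgroup M} [R.Normal] (hRp : IsPGroup r R)
    (hR : ∀ k ∈ ψ.ker, ∀ i, orderOf k = r ^ i → k ∈ R)
    (φ : M →* X) {s : Set M} (hs : ∀ x ∈ s, (orderOf x).Coprime r)
    (hcomm : ∀ x ∈ s, ∀ u ∈ R, φ ⁅x, u⁆ = 1) :
    ∀ u ∈ R ⊓ Subgroup.closure s, φ u = 1 := by
  set M₀ := Subgroup.closure s with hM₀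
  set L := M₀.map φ with hL
  let f : M₀ →* L := φ.subgroupMap M₀
  have hf : Function.Surjective f := φ.subgroupMap_surjective M₀
  have hcent : ∀ g : L, ∀ u : M, u ∈ R → (g : X) * φ u = φ u * g := by
    intro g u hu
    obtain ⟨x, hx, e⟩ := g.2
    rw [← e]
    have hle : M₀ ≤ (Subgroup.centralizer ({φ u} : Set X)).comap φ := by
      refine (Subgroup.closure_le _).mpr fun x hx => ?_
      rw [SetLike.mem_coe, Subgroup.mem_comap, Subgroup.mem_centralizer_singleton_iff]
      have h1 := hcomm x hx u hu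
      rw [map_commutatorElement] at h1
      exact commutatorElement_eq_one_iff_mul_comm.mp h1
    exact Subgroup.mem_centralizer_singleton_iff.mp (hle hx)
  let P : Sylow r M₀ := default
  -- the Sylow subgroup maps to an abelian group
  haveI hQ : IsCyclic ((P : Subgroup M₀).map (ψ.comp M₀.subtype)) := hcyc _ (P.2.map _)
  obtain ⟨⟨a, g, hg, ha⟩, hgen⟩ := hQ.exists_generator
  have hdec : ∀ x ∈ (P : Subgroup M₀), ∃ i : ℤ, ((g ^ i)⁻¹ * x : M) ∈ R := by
    intro x hx
    obtain ⟨i, hi⟩ := hgen ⟨_, Subgroup.mem_map_of_mem _ hx⟩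
    refine ⟨i, ?_⟩
    have hk : (((g : M₀) ^ i)⁻¹ * x : M₀) ∈ (P : Subgroup M₀) := mul_mem (inv_mem (zpow_mem hg i)) hx
    obtain ⟨j, hj⟩ := IsPGroup.iff_orderOf.mp P.2 ⟨_, hk⟩
    rw [Subgroup.orderOf_mk, ← Subgroup.orderOf_coe] at hj
    refine hR _ ?_ j (by simpa using hj)
    have e := congrArg Subtype.val hi
    simp only [SubgroupClass.coe_zpow] at e
    rw [← ha] at e
    simp only [MonoidHom.comp_apply, Subgroup.subtype_apply] at e
    simp [MonoidHom.mem_ker, e]
  have hab : IsMulCommutative ((P.mapSurjective hf : Sylow r L) : Subgroup L) := by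
    refine ⟨⟨fun a b => Subtype.ext ?_⟩⟩
    obtain ⟨x, hx, ea⟩ := a.2
    obtain ⟨y, hy, eb⟩ := b.2
    show (a : L) * b = b * a
    rw [← ea, ← eb]
    obtain ⟨i, hi⟩ := hdec x hx
    obtain ⟨j, hj⟩ := hdec y hy
    have key : ∀ (x : M₀) (i : ℤ), ((g ^ i)⁻¹ * x : M) ∈ R →
        ∃ z : L, (∀ w : L, w * z = z * w) ∧ f x = f g ^ i * z := fun x i hi => by
      have hm : ((g ^ i)⁻¹ * x : M) ∈ M₀ := mul_mem (inv_mem (zpow_mem g.2 i)) x.2
      refine ⟨f ⟨_, hm⟩, fun w => Subtype.ext (hcent w _ hi), ?_⟩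
      rw [← map_zpow, ← map_mul]
      congr 1
      exact Subtype.ext (by simp)
    obtain ⟨z, hz, ex⟩ := key x i hi
    obtain ⟨z', hz', ey⟩ := key y j hj
    rw [ex, ey]
    have h1 : Commute (f g ^ i * z) (f g ^ j * z') :=
      Commute.mul_left (((Commute.refl (f g)).zpow_zpow i j).mul_right (hz' _))
        (Commute.mul_right (hz _).symm (hz _).symm)
    exact h1.eq
  intro u hu
  let u₀ : M₀ := ⟨u, hu.2⟩
  have hu₀ : u₀ ∈ (P : Subgroup M₀) := by
    have hn : IsPGroup r (R.subgroupOf M₀) := hRp.comap_subtype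
    exact hn.le_sylow_of_normal P (show u₀ ∈ R.subgroupOf M₀ from hu.1)
  have h := eq_one_of_central (P.mapSurjective hf) hab
    (s := f '' ((Subtype.val : M₀ → M) ⁻¹' s))
    (by rintro _ ⟨x, hx, rfl⟩
        exact Nat.Coprime.coprime_dvd_left (orderOf_map_dvd f x) (by rw [← Subgroup.orderOf_coe]; exact hs _ hx))
    (by rw [← MonoidHom.map_closure, Subgroup.closure_closure_coe_preimage,
          Subgroup.map_top_of_surjective f hf])
    (z := f u₀) ⟨u₀, hu₀, rfl⟩ (fun w => Subtype.ext (hcent w u hu.1))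
  exact congrArg Subtype.val h

theorem false_of_twoUniversal (hb : Bdd G) {S : Subgroup G} [S.Normal] (hS : TwoUniversal S) : False := by
  classical
  haveI := Fact.mk Nat.prime_two
  let Q0 : Sylow 2 S := default
  set Q := (Q0 : Subgroup S).map S.subtype with hQdef
  have hQ0 : Q ≠ ⊥ := by
    rw [hQdef, Ne, Subgroup.map_eq_bot_iff_of_injective _ S.subtype_injective]
    exact Q0.ne_bot_of_dvd_card hS.1
  obtain ⟨W, hW, hW0, hNW⟩ := exists_omega (Q0.2.map S.subtype) hQ0
  obtain ⟨M, hMN, hMS, hKΦ⟩ := exists_supplement (S := S) (Sylow.normalizer_sup_eq_top Q0)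
  have hMW : M ≤ Subgroup.normalizer (W : Set G) := hMN.trans hNW
  set K := S.subgroupOf M with hK
  haveI hKn : Group.IsNilpotent K := by
    haveI : Group.IsNilpotent (frattini M) := frattini_nilpotent
    exact Group.nilpotent_of_mulEquiv (Subgroup.subgroupOfEquivOfLe hKΦ)
  -- primes of `S` not joined to every prime of `S`
  set T : Finset ℕ := (Nat.card S).primeFactors.filter
    (fun q => ∃ p : ℕ, p.Prime ∧ p ≠ q ∧ p ∣ Nat.card S ∧ ¬ Edge G p q) with hT
  have hTprop : ∀ q ∈ T, q.Prime ∧ q ≠ 2 ∧ q ∣ Nat.card S ∧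
      ∃ p : ℕ, p.Prime ∧ p ≠ q ∧ p ∣ Nat.card S ∧ ¬ Edge G p q := by
    intro q hq
    rw [hT, Finset.mem_filter, Nat.mem_primeFactors] at hq
    obtain ⟨⟨hqp, hqS, -⟩, p, hp, hpq, hpS, hne⟩ := hq
    refine ⟨hqp, ?_, hqS, p, hp, hpq, hpS, hne⟩
    rintro rfl
    exact hne (hS.2 p hp hpq hpS).of_subgroup.symm
  obtain ⟨B, hBn, hBK, hBT, hBel⟩ := exists_badPart K T fun q hq => (hTprop q hq).1
  haveI := hBn
  let φ : M →* MulAut W := W.normalizerMonoidHom.comp (Subgroup.inclusion hMW)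
  have hφker : ∀ x : M, φ x = 1 ↔ (x : G) ∈ Subgroup.centralizer (W : Set G) := fun x => by
    show Subgroup.inclusion hMW x ∈ W.normalizerMonoidHom.ker ↔ _
    rw [Subgroup.normalizerMonoidHom_ker]
    rfl
  have hφapp : ∀ (x : M) (w : W), ((φ x w : W) : G) = (x : G) * w * (x : G)⁻¹ := fun x w => rfl
  set s : Set M := {x : M | IsFar G (orderOf x)} with hs
  set M₀ := Subgroup.closure s with hM₀
  haveI hM₀n : M₀.Normal := ⟨fun x hx g => by
    have h1 : M₀.map (MulAut.conj g).toMonoidHom ≤ M₀ := by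
      rw [hM₀, MonoidHom.map_closure]
      refine Subgroup.closure_mono ?_
      rintro _ ⟨y, hy, rfl⟩
      show IsFar G (orderOf ((MulAut.conj g) y))
      rwa [MulEquiv.orderOf_eq]
    exact h1 ⟨x, hx, rfl⟩⟩
  have hfpfW : ∀ x ∈ s, ∀ w ∈ W, (x : G) * w * (x : G)⁻¹ = w → w = 1 := by
    intro x hx w hw he
    by_contra hw1
    refine hx.2.2.2 (edge_of_commute Nat.prime_two hx.1 hx.2.1.symm (a := w) (b := (x : G)) ?_ ?_ ?_)
    · exact (mul_inv_eq_iff_eq_mul.mp he).symm
    · rw [orderOf_eq_prime (hW.2 w hw) hw1]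
    · rw [Subgroup.orderOf_coe]
  -- the bad part lies in the kernel
  have hker : ∀ u ∈ B ⊓ M₀, φ u = 1 := by
    intro u hu
    by_contra hu1
    obtain ⟨r, hr, hrd⟩ := Nat.exists_prime_and_dvd (mt orderOf_eq_one_iff.mp hu1)
    haveI := Fact.mk hr
    have hrT : r ∈ T := hBT r hr
      ((hrd.trans (orderOf_map_dvd φ u)).trans (Subgroup.orderOf_dvd_natCard B hu.1))
    obtain ⟨hr', hr2, hrS, p, hp, hpr, hpS, hne⟩ := hTprop r hrT
    obtain ⟨R, hRn, hRK, hRp, hRel⟩ := exists_rPart K r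
    haveI := hRn
    have hsr : ∀ x ∈ s, (orderOf x).Coprime r := fun x hx =>
      (Nat.coprime_primes hx.1 hr).mpr fun e => hS.not_dvd hx (e.symm ▸ hrS)
    have hcomm : ∀ x ∈ s, ∀ v ∈ R, φ ⁅x, v⁆ = 1 := by
      intro x hx v hv
      rw [hφker]
      have h := (BG.FixedLine.fpf_groups (p := 2) (q := r) (r := orderOf x) (V := W)
        (Q := R.map M.subtype) (x := (x : G)) Nat.prime_two hr hx.1 hr2.symm hx.2.1.symm
        (fun e => hS.not_dvd hx (e ▸ hrS)) hW (hRp.map _)
        (by rw [← Subgroup.coe_pow, pow_orderOf_eq_one]; rfl) ?_ (hMW x.2) ?_ ?_).resolve_right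
        (fun h => hr2 h.1.1)
      · exact h v ⟨v, hv, rfl⟩
      · refine Subgroup.le_normalizer_map M.subtype ⟨x, ?_, rfl⟩
        rw [Subgroup.normalizer_eq_top]; exact Subgroup.mem_top _
      · exact (Subgroup.map_subtype_le R).trans hMW
      · refine (Subgroup.eq_bot_iff_forall _).mpr fun w hw => hfpfW x hx w hw.1 ?_
        rw [← (Subgroup.mem_centralizer_singleton_iff.mp hw.2), mul_inv_cancel_right]
    obtain ⟨a, m, hm, hua, -, hum⟩ := Transfer.exists_pow_coprime_part (p := r) u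
    have h1 : φ (u ^ m) = 1 := rPart_le_ker ((QuotientGroup.mk' S).comp M.subtype)
      (fun Qs hQs => isCyclic_quotient_pGroup hr hp hr2 hpr.symm hpS (fun h => hne h.symm) Qs hQs)
      hRp (fun k hk i hi => hRel k (by
        rw [hK, Subgroup.mem_subgroupOf, ← QuotientGroup.eq_one_iff]; exact hk) i hi)
      φ hsr hcomm _ ⟨hRel _ (hBK (pow_mem hu.1 m)) a hum, pow_mem hu.2 m⟩
    rw [map_pow] at h1
    exact hm (hrd.trans (orderOf_dvd_of_pow_eq_one h1))
  -- the quotient and its module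
  set π := QuotientGroup.mk' B with hπ
  let ψ : M ⧸ B →* G ⧸ S := QuotientGroup.lift B ((QuotientGroup.mk' S).comp M.subtype) fun x hx => by
    rw [MonoidHom.mem_ker, MonoidHom.comp_apply, QuotientGroup.mk'_apply, QuotientGroup.eq_one_iff]
    exact hBK hx
  set D₀ := M₀.map π with hD₀
  haveI : D₀.Normal := hM₀n.map π (QuotientGroup.mk'_surjective B)
  let π₀ : M₀ →* D₀ := π.subgroupMap M₀
  have hπ₀ : Function.Surjective π₀ := π.subgroupMap_surjective M₀
  let θ : D₀ →* MulAut W := π₀.liftOfSurjective hπ₀ ⟨φ.comp M₀.subtype, fun x hx =>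
    hker x ⟨(QuotientGroup.eq_one_iff (x : M)).mp (congrArg Subtype.val (MonoidHom.mem_ker.mp hx)), x.2⟩⟩
  have hθ : ∀ x : M₀, θ (π₀ x) = φ x := fun x => MonoidHom.liftOfRightInverse_comp_apply _ _ _ _ _
  letI : CommGroup W := { (inferInstance : Group W) with mul_comm := fun a b => hW.1.is_comm.comm a b }
  haveI : Nontrivial W := (Subgroup.nontrivial_iff_ne_bot W).mpr hW0
  haveI := nontrivial_coind θ
  have hψ : Function.Surjective ψ := fun y => by
    obtain ⟨g, rfl⟩ := QuotientGroup.mk'_surjective S y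
    obtain ⟨m, hm, t, ht, e⟩ := Subgroup.mem_sup_of_normal_right.mp (hMS.ge (Subgroup.mem_top g))
    exact ⟨QuotientGroup.mk ⟨m, hm⟩, by
      show (QuotientGroup.mk m : G ⧸ S) = QuotientGroup.mk g
      rw [← e, QuotientGroup.mk_mul_of_mem _ ht]⟩
  refine false_of_cover hb hS ψ hψ
    ((Subgroup.card_quotient_dvd_card B).trans (Subgroup.card_subgroup_dvd_card M)) ?_ ?_
    (V := coind θ) ?_ (coindAct θ) ?_
  · intro d n hn
    obtain ⟨m, rfl⟩ := QuotientGroup.mk'_surjective B d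
    exact ⟨m, by rw [Subgroup.orderOf_coe]; exact hn.trans (orderOf_map_dvd _ _)⟩
  · intro d hd p q hp hq hpq hpS hqd
    obtain ⟨m, rfl⟩ := QuotientGroup.mk'_surjective B d
    have hmK : m ∈ K := by
      rw [hK, Subgroup.mem_subgroupOf, ← QuotientGroup.eq_one_iff]
      exact MonoidHom.mem_ker.mp hd
    by_contra hne
    have hqS : q ∣ Nat.card S := by
      refine (hqd.trans (orderOf_map_dvd π m)).trans ?_
      rw [← Subgroup.orderOf_coe]
      exact Subgroup.orderOf_dvd_natCard S hmK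
    have hqT : q ∈ T := by
      rw [hT, Finset.mem_filter, Nat.mem_primeFactors]
      exact ⟨⟨hq, hqS, Nat.card_pos.ne'⟩, p, hp, hpq, hpS, hne⟩
    haveI := Fact.mk hq
    obtain ⟨a, c, hc, -, -, hmc⟩ := Transfer.exists_pow_coprime_part (p := q) m
    refine hc (hqd.trans (orderOf_dvd_of_pow_eq_one ?_))
    rw [← map_pow, QuotientGroup.mk'_apply, QuotientGroup.eq_one_iff]
    exact hBel q hqT _ (pow_mem hmK c) a hmc
  · intro f
    exact Subtype.ext (funext fun y => Subtype.ext (hW.2 _ ((f : M ⧸ B → W) y).2))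
  · intro d q hq hd f hf
    -- a far element of the quotient lifts to one of `M`
    have hlift : ∀ d : M ⧸ B, orderOf d = q → ∃ x ∈ s, π x = d := by
      intro d hd
      obtain ⟨m, rfl⟩ := QuotientGroup.mk'_surjective B d
      haveI := Fact.mk hq.1
      have hmq : m ^ q ∈ B := by
        rw [← QuotientGroup.eq_one_iff, ← hd]
        exact (map_pow π m (orderOf (π m))).trans (pow_orderOf_eq_one (π m))
      have hqB : (Nat.card B).Coprime q := ((hq.1.coprime_iff_not_dvd).mpr fun h =>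
        hS.not_dvd hq (hTprop q (hBT q hq.1 h)).2.2.1).symm
      obtain ⟨t, -, ht⟩ := Nat.exists_mul_mod_eq_one_of_coprime hqB hq.1.one_lt
      set b := Nat.card B with hbdef
      have hx1 : (m ^ (b * t)) ^ q = 1 := by
        rw [← pow_mul, show b * t * q = q * b * t by ring, pow_mul, pow_mul,
          orderOf_dvd_iff_pow_eq_one.mp (Subgroup.orderOf_dvd_natCard B hmq), one_pow]
      have hx2 : π (m ^ (b * t)) = π m := by
        rw [map_pow]
        conv_lhs => rw [← Nat.div_add_mod (b * t) q, ht, pow_succ, pow_mul, ← hd]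
        rw [pow_orderOf_eq_one, one_pow, one_mul]
      refine ⟨m ^ (b * t), ?_, hx2⟩
      show IsFar G (orderOf (m ^ (b * t)))
      rwa [orderOf_eq_prime hx1 fun h1 => hq.1.ne_one (by rw [← hd, ← hx2, h1, map_one, orderOf_one])]
    obtain ⟨x, hx, rfl⟩ := hlift d hd
    refine coind_fpf θ ⟨x, Subgroup.subset_closure hx, rfl⟩ (fun x' hx' w hw => ?_) f hf
    obtain ⟨y, hy⟩ := hx'
    obtain ⟨z, hz, ez⟩ := hlift (x' : M ⧸ B) (by rw [← hy, ← hd]; exact (MulAut.conj y).orderOf_eq _)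
    have hzx : π₀ ⟨z, Subgroup.subset_closure hz⟩ = x' := Subtype.ext ez
    rw [← hzx, hθ] at hw
    exact Subtype.ext (hfpfW z hz w w.2 ((hφapp z w).symm.trans (congrArg Subtype.val hw)))

end CfsgLib.BoundedGraph
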