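import Cfsg.Agent.Lib.BoundedGraph.Defs
import Cfsg.Agent.Lib.Coprime.Generation
import Cfsg.Agent.Lib.Coprime.NoncyclicAbelian

/-!
Cyclic Sylow subgroups of `G / S` at primes of `S` that are not joined to all of `π(S)`.
-/

set_option autoImplicit false
set_option linter.style.haveILetI false

universe u

namespace CfsgLib.BoundedGraph

variable {G : Type u} [Group G] [Finite G]

/-- A noncyclic `r`-group (`r` odd) normalizing an `s`-group `≠ 1` gives an edge `r - s`. -/
theorem edge_of_noncyclic {r s : ℕ} (hr : r.Prime) (hs : s.Prime) (hr2 : r ≠ 2) (hrs : r ≠ s)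
    {P R : Subgroup G} (hP : IsPGroup r P) (hR : IsPGroup s R) (hPR : P ≤ Subgroup.normalizer (R : Set G))
    (hR0 : R ≠ ⊥) (hnc : ¬ IsCyclic P) : Edge G r s := by
  haveI := Fact.mk hr
  haveI := Fact.mk hs
  obtain ⟨A0, hA0c, hA0n⟩ := Cfsg.Agent.NoncyclicAbelian.exists_noncyclic_abelian hr2 hP hnc
  set A := A0.map P.subtype with hA
  haveI : IsMulCommutative A := ⟨⟨fun a b => by
    obtain ⟨_, x, hx, rfl⟩ := a
    obtain ⟨_, y, hy, rfl⟩ := b
    exact Subtype.ext (congrArg P.subtype (congrArg Subtype.val (hA0c.is_comm.comm ⟨x, hx⟩ ⟨y, hy⟩) :))⟩⟩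
  have hAn : ¬ IsCyclic A := fun h => hA0n
    (isCyclic_of_surjective (A0.equivMapOfInjective _ P.subtype_injective).symm.toMonoidHom
      (A0.equivMapOfInjective _ P.subtype_injective).symm.surjective)
  have hAP : A ≤ P := Subgroup.map_subtype_le _
  have hAp : IsPGroup r A := hP.to_le hAP
  have hgen := Coprime.iSup_centralizer_eq (A := A) (K := R) hAn (hAP.trans hPR)
    (IsPGroup.coprime_card_of_ne r s hrs _ _ hAp hR)
  by_contra hne
  refine hR0 (le_bot_iff.mp (hgen ▸ iSup₂_le fun a ha => (Subgroup.eq_bot_iff_forall _).mpr ?_ |>.le))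
  intro u hu
  by_contra hu1
  obtain ⟨i, hi⟩ := IsPGroup.iff_orderOf.mp hAp ⟨a, ha.1⟩
  obtain ⟨j, hj⟩ := IsPGroup.iff_orderOf.mp hR ⟨u, hu.1⟩
  rw [Subgroup.orderOf_mk] at hi hj
  refine hne (edge_of_commute hr hs hrs (a := a) (b := u)
    (Subgroup.mem_centralizer_singleton_iff.mp hu.2).symm ?_ ?_)
  · rw [hi]
    exact dvd_pow_self r (by rintro rfl; exact ha.2 (orderOf_eq_one_iff.mp (by simpa using hi)))
  · rw [hj]
    exact dvd_pow_self s (by rintro rfl; exact hu1 (orderOf_eq_one_iff.mp (by simpa using hj)))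

/-- If `r` is an odd prime not joined to the prime `s` of `S`, the `r`-subgroups of `G / S` are
cyclic. -/
theorem isCyclic_quotient_pGroup {r s : ℕ} (hr : r.Prime) (hs : s.Prime) (hr2 : r ≠ 2) (hrs : r ≠ s)
    {S : Subgroup G} [S.Normal] (hsS : s ∣ Nat.card S) (hne : ¬ Edge G r s)
    (Q : Subgroup (G ⧸ S)) (hQ : IsPGroup r Q) : IsCyclic Q := by
  haveI := Fact.mk hr
  haveI := Fact.mk hs
  let R0 : Sylow s S := default
  set R := (R0 : Subgroup S).map S.subtype with hR
  have hRp : IsPGroup s R := R0.2.map _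
  have hR0 : R ≠ ⊥ := by
    rw [hR, Ne, Subgroup.map_eq_bot_iff_of_injective _ S.subtype_injective]
    exact R0.ne_bot_of_dvd_card hsS
  set N := Subgroup.normalizer (R : Set G) with hN
  have hsup : N ⊔ S = ⊤ := Sylow.normalizer_sup_eq_top R0
  let f : N →* G ⧸ S := (QuotientGroup.mk' S).comp N.subtype
  have hf : Function.Surjective f := by
    intro y
    obtain ⟨g, rfl⟩ := QuotientGroup.mk'_surjective S y
    obtain ⟨n, hn, t, ht, e⟩ := Subgroup.mem_sup_of_normal_right.mp (hsup.ge (Subgroup.mem_top g))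
    exact ⟨⟨n, hn⟩, by
      show (QuotientGroup.mk n : G ⧸ S) = QuotientGroup.mk g
      rw [← e, QuotientGroup.mk_mul_of_mem _ ht]⟩
  obtain ⟨Q', hQ'⟩ := hQ.exists_le_sylow
  let P0 : Sylow r N := default
  obtain ⟨c, hc⟩ := MulAction.exists_smul_eq (G ⧸ S) (P0.mapSurjective hf) Q'
  by_contra hnc
  have hPnc : ¬ IsCyclic ((P0 : Subgroup N).map N.subtype) := by
    intro hcy
    haveI : IsCyclic (P0 : Subgroup N) :=
      isCyclic_of_injective ((P0 : Subgroup N).equivMapOfInjective _ N.subtype_injective).toMonoidHom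
        ((P0 : Subgroup N).equivMapOfInjective _ N.subtype_injective).injective
    haveI h1 : IsCyclic ((P0.mapSurjective hf : Sylow r (G ⧸ S)) : Subgroup (G ⧸ S)) :=
      isCyclic_of_surjective (f.subgroupMap (P0 : Subgroup N)) (f.subgroupMap_surjective _)
    haveI h2 : IsCyclic (Q' : Subgroup (G ⧸ S)) := by
      rw [← hc]
      exact isCyclic_of_surjective (Sylow.equivSMul (P0.mapSurjective hf) c).toMonoidHom
        (Sylow.equivSMul (P0.mapSurjective hf) c).surjective
    exact hnc (isCyclic_of_injective (Subgroup.inclusion hQ') (Subgroup.inclusion_injective hQ'))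
  exact hne (edge_of_noncyclic hr hs hr2 hrs (P0.2.map N.subtype) hRp
    (Subgroup.map_subtype_le _) hR0 hPnc)

end CfsgLib.BoundedGraph
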