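import Mathlib

/-!
# Groups with boundedly many groups having the same prime graph

Basic language: `Edge G p q` (some element of order divisible by `p * q`), `SameGraph` and `Bdd`.
-/

set_option autoImplicit false
set_option linter.style.haveILetI false

universe u v w

namespace CfsgLib.BoundedGraph

/-- `G` has an element of order divisible by `p * q`. -/
def Edge (G : Type u) [Group G] (p q : ℕ) : Prop := ∃ g : G, p * q ∣ orderOf g

/-- Same prime graph, in the form of the statements. -/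
def SameGraph (G : Type u) [Group G] (H : Type v) [Group H] : Prop :=
  (∀ p : ℕ, p.Prime → (p ∣ Nat.card G ↔ p ∣ Nat.card H)) ∧
  (∀ p q : ℕ, p.Prime → q.Prime → p ≠ q →
    ((∃ g : G, orderOf g = p * q) ↔ (∃ g : H, orderOf g = p * q)))

/-- Bounded orders of the groups with the same prime graph as `G`. -/
def Bdd (G : Type u) [Group G] : Prop :=
  ∃ n : ℕ, ∀ (H : Type) [Group H] [Finite H], SameGraph G H → Nat.card H ≤ n

/-- Almost simple, in the form of the statements. -/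
def AlmostSimple (G : Type u) [Group G] : Prop :=
  ∃ N : Subgroup G, N.Normal ∧ IsSimpleGroup ↥N ∧ ¬ IsMulCommutative ↥N ∧
    Subgroup.centralizer (N : Set G) = ⊥

variable {G : Type u} [Group G]

theorem exists_orderOf_iff [Finite G] (d : ℕ) :
    (∃ g : G, orderOf g = d) ↔ ∃ g : G, d ∣ orderOf g :=
  ⟨fun ⟨g, hg⟩ => ⟨g, hg ▸ dvd_rfl⟩, fun ⟨g, hg⟩ => ⟨g ^ (orderOf g / d),
    orderOf_pow_orderOf_div (orderOf_pos g).ne' hg⟩⟩

theorem Edge.symm {p q : ℕ} (h : Edge G p q) : Edge G q p :=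
  h.imp fun g hg => by rwa [mul_comm]

theorem edge_of_commute [Finite G] {p q : ℕ} (hp : p.Prime) (hq : q.Prime) (hpq : p ≠ q) {a b : G}
    (hc : Commute a b) (ha : p ∣ orderOf a) (hb : q ∣ orderOf b) : Edge G p q := by
  obtain ⟨a', ha', hca⟩ : ∃ a', orderOf a' = p ∧ Commute a' b :=
    ⟨a ^ (orderOf a / p), orderOf_pow_orderOf_div (orderOf_pos a).ne' ha, hc.pow_left _⟩
  have hb' : orderOf (b ^ (orderOf b / q)) = q := orderOf_pow_orderOf_div (orderOf_pos b).ne' hb
  refine ⟨a' * b ^ (orderOf b / q), ?_⟩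
  rw [(hca.pow_right _).orderOf_mul_eq_mul_orderOf_of_coprime
    (by rw [ha', hb']; exact (Nat.coprime_primes hp hq).mpr hpq), ha', hb']

theorem SameGraph.of_edges [Finite G] {H : Type v} [Group H] [Finite H]
    (h1 : ∀ p : ℕ, p.Prime → (p ∣ Nat.card G ↔ p ∣ Nat.card H))
    (h2 : ∀ p q : ℕ, p.Prime → q.Prime → p ≠ q → (Edge G p q ↔ Edge H p q)) : SameGraph G H :=
  ⟨h1, fun p q hp hq hpq => by rw [exists_orderOf_iff, exists_orderOf_iff]; exact h2 p q hp hq hpq⟩

theorem SameGraph.trans {H : Type v} [Group H] {K : Type w} [Group K]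
    (h : SameGraph G H) (h' : SameGraph H K) : SameGraph G K :=
  ⟨fun p hp => (h.1 p hp).trans (h'.1 p hp),
    fun p q hp hq hpq => (h.2 p q hp hq hpq).trans (h'.2 p q hp hq hpq)⟩

theorem sameGraph_of_mulEquiv {H : Type v} [Group H] (e : G ≃* H) : SameGraph G H :=
  ⟨fun p _ => by rw [Nat.card_congr e.toEquiv], fun p q _ _ _ =>
    ⟨fun ⟨g, hg⟩ => ⟨e g, by rw [e.orderOf_eq, hg]⟩,
      fun ⟨g, hg⟩ => ⟨e.symm g, by rw [e.symm.orderOf_eq, hg]⟩⟩⟩

/-- A copy in `Type` of a finite group. -/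
theorem Bdd.exists_bound (h : Bdd G) :
    ∃ n : ℕ, ∀ (H : Type v) [Group H] [Finite H], SameGraph G H → Nat.card H ≤ n := by
  obtain ⟨n, hn⟩ := h
  refine ⟨n, fun H _ _ hH => ?_⟩
  haveI : Small.{0} H := ⟨⟨Fin (Nat.card H), ⟨Finite.equivFin H⟩⟩⟩
  haveI : Finite (Shrink.{0} H) := Finite.of_equiv H (equivShrink.{0} H)
  have := hn (Shrink.{0} H) (hH.trans (sameGraph_of_mulEquiv (Shrink.mulEquiv (α := H)).symm))
  rwa [Nat.card_congr (equivShrink.{0} H).symm] at this

/-- Arbitrarily large groups with the graph of `G` contradict boundedness. -/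
theorem Bdd.false_of_family (h : Bdd G) (F : ℕ → Type v) [∀ k, Group (F k)] [∀ k, Finite (F k)]
    (hF : ∀ k, SameGraph G (F k)) (hk : ∀ k, k < Nat.card (F k)) : False := by
  obtain ⟨n, hn⟩ := h.exists_bound
  exact absurd (hn (F n) (hF n)) (not_le.mpr (hk n))

theorem Bdd.of_sameGraph (h : Bdd G) {H : Type v} [Group H] (hH : SameGraph G H) : Bdd H := by
  obtain ⟨n, hn⟩ := h
  exact ⟨n, fun K _ _ hK => hn K (hH.trans hK)⟩

end CfsgLib.BoundedGraph
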