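import Cfsg.Agent.Lib.BoundedGraph.Defs
import Cfsg.Agent.Lib.MinNormal.SimpleConjugates
import Cfsg.Agent.Lib.OddOrder.Solvable

/-!
No soluble normal subgroup, and the shape of a group that is not almost simple.
-/

set_option autoImplicit false
set_option linter.style.haveILetI false

universe u

namespace CfsgLib.BoundedGraph

variable {G : Type u} [Group G]

/-- Tuples with all entries congruent modulo `N`. -/
def congrPi (N : Subgroup G) [N.Normal] (k : ℕ) : Subgroup (Fin (k + 1) → G) where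
  carrier := {f | ∀ i, (QuotientGroup.mk (f i) : G ⧸ N) = QuotientGroup.mk (f 0)}
  one_mem' := fun i => rfl
  mul_mem' := fun {a b} ha hb i => by
    simp only [Pi.mul_apply, QuotientGroup.mk_mul]
    rw [ha i, hb i]
  inv_mem' := fun {a} ha i => by
    simp only [Pi.inv_apply, QuotientGroup.mk_inv]
    rw [ha i]

theorem exists_orderOf_dvd_apply [Finite G] {N : Subgroup G} [N.Normal] {p : ℕ} (hp : p.Prime)
    (hNp : ∀ x ∈ N, x ^ p = 1) (k : ℕ) (f : congrPi N k) :
    ∃ i, orderOf f ∣ orderOf ((f : Fin (k + 1) → G) i) := by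
  rw [← Subgroup.orderOf_coe]
  obtain ⟨g, hg⟩ := f
  show ∃ i, orderOf g ∣ orderOf (g i)
  set o := orderOf (QuotientGroup.mk (g 0) : G ⧸ N) with ho
  have hmem : ∀ i, g i ^ o ∈ N := fun i => by
    rw [← QuotientGroup.eq_one_iff, QuotientGroup.mk_pow, hg i, ho, pow_orderOf_eq_one]
  have hod : ∀ i, o ∣ orderOf (g i) := fun i => by
    rw [ho, ← hg i]
    exact orderOf_map_dvd (QuotientGroup.mk' N) (g i)
  by_cases hall : ∀ i, g i ^ o = 1
  · exact ⟨0, (orderOf_dvd_of_pow_eq_one (funext hall)).trans (hod 0)⟩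
  · obtain ⟨i, hi⟩ := not_forall.mp hall
    refine ⟨i, ?_⟩
    have h1 : orderOf g ∣ o * p := orderOf_dvd_of_pow_eq_one (funext fun j => by
      rw [Pi.pow_apply, pow_mul]; exact hNp _ (hmem j))
    have h2 : orderOf (g i) ∣ o * p := orderOf_dvd_of_pow_eq_one (by
      rw [pow_mul]; exact hNp _ (hmem i))
    obtain ⟨m, hm⟩ := hod i
    have ho0 : 0 < o := orderOf_pos _
    rcases hp.eq_one_or_self_of_dvd m (Nat.dvd_of_mul_dvd_mul_left ho0 (hm ▸ h2)) with rfl | rfl
    · exact absurd (orderOf_dvd_iff_pow_eq_one.mp (by rw [hm, mul_one])) hi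
    · rwa [hm]

theorem sameGraph_congrPi [Finite G] {N : Subgroup G} [N.Normal] {p : ℕ} (hp : p.Prime)
    (hNp : ∀ x ∈ N, x ^ p = 1) (k : ℕ) : SameGraph G (congrPi N k) := by
  let d : G →* congrPi N k :=
    { toFun := fun g => ⟨fun _ => g, fun _ => rfl⟩, map_one' := rfl, map_mul' := fun _ _ => rfl }
  have hd : Function.Injective d := fun a b h => congrFun (congrArg Subtype.val h :) 0
  refine SameGraph.of_edges (fun r hr => ⟨fun h => ?_, fun h => ?_⟩) (fun r s _ _ _ => ⟨?_, ?_⟩)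
  · exact h.trans (Subgroup.card_dvd_of_injective d hd)
  · have h1 := h.trans (Subgroup.card_subgroup_dvd_card _)
    rw [Nat.card_fun, Nat.card_fin] at h1
    exact hr.dvd_of_dvd_pow h1
  · rintro ⟨g, hg⟩
    exact ⟨d g, by rwa [orderOf_injective d hd]⟩
  · rintro ⟨f, hf⟩
    obtain ⟨i, hi⟩ := exists_orderOf_dvd_apply hp hNp k f
    exact ⟨(f : Fin (k + 1) → G) i, hf.trans hi⟩

theorem card_pow_le_congrPi [Finite G] (N : Subgroup G) [N.Normal] (k : ℕ) :
    Nat.card N ^ k ≤ Nat.card (congrPi N k) := by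
  let e : (Fin k → N) → congrPi N k := fun n =>
    ⟨Fin.cons 1 fun i => (n i : G), fun i => by
      refine Fin.cases ?_ (fun j => ?_) i
      · rfl
      · rw [Fin.cons_succ, Fin.cons_zero, QuotientGroup.mk_one, QuotientGroup.eq_one_iff]
        exact (n j).2⟩
  have he : Function.Injective e := fun a b h => funext fun i =>
    Subtype.ext (by simpa [e] using congrFun (congrArg Subtype.val h :) i.succ)
  simpa [Nat.card_fun] using Nat.card_le_card_of_injective e he

theorem bot_of_exponent [Finite G] (h : Bdd G) {N : Subgroup G} [N.Normal] {p : ℕ} (hp : p.Prime)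
    (hNp : ∀ x ∈ N, x ^ p = 1) : N = ⊥ := by
  by_contra hne
  have h2 : 2 ≤ Nat.card N := (Subgroup.one_lt_card_iff_ne_bot N).mpr hne
  refine h.false_of_family (fun k => congrPi N k) (fun k => sameGraph_congrPi hp hNp k) fun k => ?_
  exact lt_of_lt_of_le k.lt_two_pow_self ((Nat.pow_le_pow_left h2 k).trans (card_pow_le_congrPi N k))

theorem bot_of_isMulCommutative [Finite G] (h : Bdd G) {N : Subgroup G} [hN : N.Normal]
    (hc : IsMulCommutative N) : N = ⊥ := by
  by_contra hne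
  obtain ⟨p, hp, hpd⟩ := Nat.exists_prime_and_dvd
    ((Subgroup.one_lt_card_iff_ne_bot N).mpr hne).ne'
  haveI := Fact.mk hp
  let P : Subgroup G :=
    { carrier := {x | x ∈ N ∧ x ^ p = 1}
      one_mem' := ⟨one_mem _, one_pow p⟩
      mul_mem' := fun {a b} ha hb => ⟨mul_mem ha.1 hb.1, by
        rw [(show Commute a b from congrArg Subtype.val
          (hc.is_comm.comm ⟨a, ha.1⟩ ⟨b, hb.1⟩)).mul_pow, ha.2, hb.2, one_mul]⟩
      inv_mem' := fun {a} ha => ⟨inv_mem ha.1, by rw [inv_pow, ha.2, inv_one]⟩ }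
  haveI : P.Normal := ⟨fun x hx g => ⟨hN.conj_mem x hx.1 g, by rw [conj_pow, hx.2, mul_one, mul_inv_cancel]⟩⟩
  obtain ⟨x, hx⟩ := exists_prime_orderOf_dvd_card' p hpd
  have hxP : (x : G) ∈ P := ⟨x.2, by rw [← hx, ← Subgroup.orderOf_coe, pow_orderOf_eq_one]⟩
  rw [bot_of_exponent h hp (N := P) (fun y hy => hy.2), Subgroup.mem_bot] at hxP
  rw [← Subgroup.orderOf_coe, hxP, orderOf_one] at hx
  exact hp.ne_one hx.symm

theorem two_dvd_of_normal [Finite G] (h : Bdd G) {N : Subgroup G} [hN : N.Normal] (hne : N ≠ ⊥) :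
    2 ∣ Nat.card N := by
  by_contra h2
  haveI hsol : Group.IsSolvable N :=
    CfsgLib.OddOrder.odd_order_solvable (Nat.odd_iff.mpr (Nat.two_dvd_ne_zero.mp h2))
  haveI : Finite (Subgroup G) := Finite.of_injective (fun K => (K : Set G)) SetLike.coe_injective
  obtain ⟨M, hMN', ⟨hM0, hMn, hMN⟩, hmin⟩ :=
    (Set.toFinite {R : Subgroup G | R ≠ ⊥ ∧ R.Normal ∧ R ≤ N}).exists_le_minimal
      (show N ∈ _ from ⟨hne, hN, le_rfl⟩)
  have hcm : ⁅M, M⁆ = ⊥ := by
    by_contra hcm
    have hle : ⁅M, M⁆ ≤ M := Subgroup.commutator_le_self M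
    have hM0' : M.subgroupOf N ≠ ⊥ := by
      rw [Ne, Subgroup.subgroupOf_eq_bot]
      exact fun hd => hM0 (disjoint_self.mp (hd.mono_right hMN))
    have hlt := Group.IsSolvable.commutator_lt_of_ne_bot hM0'
    rw [← Subgroup.map_subtype_lt_map_subtype, Subgroup.map_commutator,
      Subgroup.map_subgroupOf_eq_of_le hMN] at hlt
    exact absurd (hmin ⟨hcm, inferInstance, hle.trans hMN⟩ hle) hlt.not_ge
  refine hM0 (bot_of_isMulCommutative h ⟨⟨fun a b => Subtype.ext ?_⟩⟩)
  exact (Subgroup.mem_centralizer_iff.mp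
    (Subgroup.commutator_eq_bot_iff_le_centralizer.mp hcm a.2) b b.2).symm

theorem even_of_nonabelian_simple {L : Subgroup G} [Finite G] (hs : IsSimpleGroup L)
    (hna : ¬ IsMulCommutative L) : 2 ∣ Nat.card L := by
  by_contra h2
  haveI hsol : Group.IsSolvable L :=
    CfsgLib.OddOrder.odd_order_solvable (Nat.odd_iff.mpr (Nat.two_dvd_ne_zero.mp h2))
  exact hna ⟨⟨fun a b => (IsSimpleGroup.comm_iff_isSolvable.mpr hsol) a b⟩⟩

/-- Two commuting subgroups of even order: every odd prime of the product is joined to `2`. -/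
theorem two_edge_of_commuting [Finite G] {S A B : Subgroup G} (hA : A ≤ S) (hB : B ≤ S)
    (hcomm : ∀ a ∈ A, ∀ b ∈ B, a * b = b * a) (hS : ∀ s ∈ S, ∃ a ∈ A, ∃ b ∈ B, a * b = s)
    (hA2 : 2 ∣ Nat.card A) (hB2 : 2 ∣ Nat.card B) {p : ℕ} (hp : p.Prime) (hp2 : p ≠ 2)
    (hpS : p ∣ Nat.card S) : Edge S 2 p := by
  let f : A × B →* S := MonoidHom.noncommCoprod (Subgroup.inclusion hA) (Subgroup.inclusion hB)
    (fun a b => Subtype.ext (hcomm a a.2 b b.2))
  have hf : Function.Surjective f := fun s => by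
    obtain ⟨a, ha, b, hb, e⟩ := hS s s.2
    exact ⟨(⟨a, ha⟩, ⟨b, hb⟩), Subtype.ext e⟩
  have hd := hpS.trans (Subgroup.card_dvd_of_surjective f hf)
  rw [Nat.card_prod] at hd
  haveI := Fact.mk hp
  rcases hp.dvd_mul.mp hd with h | h
  · obtain ⟨a, ha⟩ := exists_prime_orderOf_dvd_card' p h
    obtain ⟨b, hb⟩ := exists_prime_orderOf_dvd_card' 2 hB2
    refine edge_of_commute Nat.prime_two hp hp2.symm
      (a := Subgroup.inclusion hB b) (b := Subgroup.inclusion hA a)
      (Subtype.ext (hcomm a a.2 b b.2).symm) ?_ ?_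
    · rw [orderOf_injective _ (Subgroup.inclusion_injective hB), hb]
    · rw [orderOf_injective _ (Subgroup.inclusion_injective hA), ha]
  · obtain ⟨b, hb⟩ := exists_prime_orderOf_dvd_card' p h
    obtain ⟨a, ha⟩ := exists_prime_orderOf_dvd_card' 2 hA2
    refine edge_of_commute Nat.prime_two hp hp2.symm
      (a := Subgroup.inclusion hA a) (b := Subgroup.inclusion hB b)
      (Subtype.ext (hcomm a a.2 b b.2)) ?_ ?_
    · rw [orderOf_injective _ (Subgroup.inclusion_injective hA), ha]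
    · rw [orderOf_injective _ (Subgroup.inclusion_injective hB), hb]

/-- A bounded group is almost simple, or has a normal subgroup of even order in which `2` is joined
to every other prime. -/
theorem almostSimple_or_exists [Finite G] [Nontrivial G] (h : Bdd G) :
    AlmostSimple G ∨ ∃ S : Subgroup G, S.Normal ∧ 2 ∣ Nat.card S ∧
      ∀ p : ℕ, p.Prime → p ≠ 2 → p ∣ Nat.card S → Edge S 2 p := by
  haveI : Finite (Subgroup G) := Finite.of_injective (fun K => (K : Set G)) SetLike.coe_injective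
  obtain ⟨T, -, ⟨hT0, hTn⟩, hTmin⟩ :=
    (Set.toFinite {R : Subgroup G | R ≠ ⊥ ∧ R.Normal}).exists_le_minimal
      (show (⊤ : Subgroup G) ∈ _ from ⟨top_ne_bot, inferInstance⟩)
  have hna : ¬ IsMulCommutative T := fun hc => hT0 (bot_of_isMulCommutative h hc)
  obtain ⟨L, d⟩ := CfsgLib.MinNormal.exists_simpleConjugates (M := T)
    (fun N hN hN0 hle => le_antisymm hle (hTmin ⟨hN0, hN⟩ hle)) hna
  by_cases hone : ∀ g, CfsgLib.MinNormal.cj L g = CfsgLib.MinNormal.cj L 1
  · have hTL : T = L := by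
      rw [← d.sup]
      exact le_antisymm (iSup_le fun g => ((hone g).trans (CfsgLib.MinNormal.cj_one L)).le)
        (le_iSup_of_le 1 (CfsgLib.MinNormal.cj_one L).ge)
    subst hTL
    by_cases hC : Subgroup.centralizer (T : Set G) = ⊥
    · exact Or.inl ⟨T, hTn, d.simple, d.nab, hC⟩
    refine Or.inr ⟨T ⊔ Subgroup.centralizer (T : Set G), Subgroup.sup_normal _ _,
      (two_dvd_of_normal h hT0).trans (Subgroup.card_dvd_of_le le_sup_left), fun p hp hp2 hpS => ?_⟩
    refine two_edge_of_commuting le_sup_left le_sup_right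
      (fun a ha b hb => Subgroup.mem_centralizer_iff.mp hb a ha) (fun s hs => ?_)
      (two_dvd_of_normal h hT0) (two_dvd_of_normal h hC) hp hp2 hpS
    exact Subgroup.mem_sup_of_normal_left.mp hs
  · obtain ⟨g, hg⟩ := not_forall.mp hone
    have hL : CfsgLib.MinNormal.cj L 1 = L := CfsgLib.MinNormal.cj_one L
    have hL2 : 2 ∣ Nat.card L := even_of_nonabelian_simple d.simple d.nab
    have hg2 : CfsgLib.MinNormal.cj L g ≤ T ⊓ Subgroup.centralizer (L : Set G) :=
      le_inf (d.cj_le g) (by have := d.le_centralizer (Ne.symm hg); rwa [hL] at this)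
    have hB2 : 2 ∣ Nat.card ↥(T ⊓ Subgroup.centralizer (L : Set G)) := by
      rw [← CfsgLib.MinNormal.card_cj L g] at hL2
      exact hL2.trans (Subgroup.card_dvd_of_le hg2)
    refine Or.inr ⟨T, hTn, two_dvd_of_normal h hT0, fun p hp hp2 hpS => ?_⟩
    refine two_edge_of_commuting d.le inf_le_left
      (fun a ha b hb => Subgroup.mem_centralizer_iff.mp hb.2 a ha) (fun s hs => ?_)
      hL2 hB2 hp hp2 hpS
    obtain ⟨a, ha, k, hk, e⟩ := d.decomp 1 hs
    rw [hL] at ha hk
    exact ⟨a, ha, k, ⟨(Subgroup.mul_mem_cancel_left T (d.le ha)).mp (e ▸ hs), hk⟩, e⟩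

end CfsgLib.BoundedGraph
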